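import Cfsg.Agent.H617.Two.Defs
import Cfsg.Agent.S0112
import Cfsg.Agent.S0113

/-!
# S4543: T9 and T7b (tasks 2324, 2322 of helper617)
-/

set_option autoImplicit false

namespace Cfsg.Agent.H763.Two

open Subgroup Cfsg.Agent.H617.Two

/-- T9: the case `|Q| = 8` -/
theorem T9 {D : Type*} [Group D] [Finite D] (hG : Good D) {Q : Subgroup D} (hQ : Nat.card Q = 8)
    {z : D} (hz : z ∈ center D) (hz1 : z ≠ 1) (hzQ : z ∈ Q)
    (hself : ∀ x : D, (∀ q ∈ Q, x * q = q * x ∨ x * q = z * (q * x)) → x ∈ Q) : False := by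
  classical
  have : Fact (Nat.Prime 2) := ⟨Nat.prime_two⟩
  have hzz : z * z = 1 := hG.centre z hz
  have hzo : orderOf z = 2 := orderOf_eq_prime (by rw [pow_two]; exact hzz) hz1
  set Z : Subgroup D := zpowers z with hZ
  have hZn : Z.Normal := by
    refine ⟨fun n hn g => ?_⟩
    have h1 : n ∈ center D := (show Z ≤ center D by rw [hZ, zpowers_le]; exact hz) hn
    rw [mem_center_iff.1 h1 g, mul_inv_cancel_right]
    exact hn
  have hZc : Nat.card Z = 2 := by rw [hZ, Nat.card_zpowers, hzo]
  have hZQ : Z ≤ Q := by rw [hZ, zpowers_le]; exact hzQ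
  have hZmem : ∀ x ∈ Z, x = 1 ∨ x = z := by
    intro x hx
    rw [hZ, mem_zpowers_iff_mem_range_orderOf, hzo] at hx
    simp only [Finset.range_add_one, Finset.range_zero, Finset.image_insert, Finset.image_empty, pow_one, pow_zero] at hx
    simp only [Finset.mem_insert, insert_empty_eq, Finset.mem_singleton] at hx
    exact hx.symm
  have hcard : Nat.card (D ⧸ Z) = 2 ^ 5 := by
    have h1 := card_eq_card_quotient_mul_card_subgroup Z
    rw [hG.card, hZc] at h1
    omega
  let A : Subgroup (D ⧸ Z) := Q.map (QuotientGroup.mk' Z)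
  have hA : Nat.card A = 4 := by
    have h1 : Nat.card Q = Nat.card A * Nat.card Z := by
      let f : Q →* D ⧸ Z := (QuotientGroup.mk' Z).comp Q.subtype
      have h2 := card_eq_card_quotient_mul_card_subgroup f.ker
      have h3 : Nat.card (Q ⧸ f.ker) = Nat.card A := by
        rw [Nat.card_congr (QuotientGroup.quotientKerEquivRange f).toEquiv]
        have : f.range = A := by rw [MonoidHom.range_comp, Q.range_subtype]
        rw [this]
      have h4 : f.ker = Z.subgroupOf Q := by
        rw [← MonoidHom.comap_ker, QuotientGroup.ker_mk']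
        rfl
      have h5 : Nat.card (Z.subgroupOf Q) = Nat.card Z := Nat.card_congr (subgroupOfEquivOfLe hZQ).toEquiv
      rw [h3, h4, h5] at h2
      exact h2
    rw [hQ, hZc] at h1
    omega
  have hAcomm : ∀ a ∈ A, ∀ b ∈ A, a * b = b * a := by
    intro a ha b hb
    have h1 : IsMulCommutative A := IsPGroup.isMulCommutative_of_card_eq_prime_sq (p := 2) (by rw [hA]; norm_num)
    have := h1.is_comm.comm ⟨a, ha⟩ ⟨b, hb⟩
    exact congrArg Subtype.val this
  have hC : centralizer (A : Set (D ⧸ Z)) = A := by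
    apply le_antisymm
    · intro x hx
      obtain ⟨x, rfl⟩ := QuotientGroup.mk'_surjective Z x
      refine ⟨x, hself x fun q hq => ?_, rfl⟩
      have h1 := hx (QuotientGroup.mk' Z q) ⟨q, hq, rfl⟩
      rw [← map_mul, ← map_mul, QuotientGroup.mk'_apply, QuotientGroup.mk'_apply, QuotientGroup.eq] at h1
      rcases hZmem _ h1 with h2 | h2
      · left
        rw [inv_mul_eq_one] at h2
        exact h2.symm
      · right
        rw [inv_mul_eq_iff_eq_mul] at h2
        rw [h2]
        exact mem_center_iff.1 hz _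
    · intro x hx y hy
      exact hAcomm y hy x hx
  have h1 := Cfsg.Agent.S0112.result (p := 2) 5 hcard A (by rw [hA]; norm_num) hC
  obtain ⟨C, hC1, hC2⟩ := Cfsg.Agent.S0113.result 5 (by norm_num) hcard h1
  obtain ⟨c, hc⟩ := hC1.exists_generator
  have hcc : Nat.card C = 16 := by
    have := card_mul_index C
    rw [hC2, hcard] at this
    omega
  have hco : orderOf c = 16 := by rw [orderOf_eq_card_of_forall_mem_zpowers hc, hcc]
  obtain ⟨x, hx⟩ := QuotientGroup.mk'_surjective Z (c : D ⧸ Z)
  have h8 : (c : D ⧸ Z) ^ 8 = 1 := by rw [← hx, ← map_pow, hG.exp, map_one]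
  have h8' : c ^ 8 = 1 := Subtype.ext (by simpa using h8)
  have h9 := orderOf_dvd_of_pow_eq_one h8'
  rw [hco] at h9
  omega

/-- T7b: the last case determines `z` -/
theorem T7b {D : Type*} [Group D] [Finite D] (hG : Good D) {Q Q' : Subgroup D} {z z' : D}
    (h : Last Q z) (h' : Last Q' z') (hz : z ∈ center D) (hz' : z' ∈ center D) : z = z' := by
  by_contra hne
  have hz1 : z ≠ 1 := by
    rintro rfl
    obtain ⟨x, hx, w, hw, hxw⟩ := h.nonab
    rcases h.comm x hx w hw with h1 | h1
    · exact hxw h1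
    · rw [one_mul] at h1; exact hxw h1
  have hidx : ∀ {P : Subgroup D}, Nat.card P = 32 → P.index = 2 := by
    intro P hP
    have := card_mul_index P
    rw [hP, hG.card] at this
    omega
  have hi := hidx h.card
  have hi' := hidx h'.card
  have hsq : ∀ x : D, x * x ∈ Q := fun x => mul_self_mem_of_index_two hi x
  have hsq' : ∀ x : D, x * x ∈ Q' := fun x => mul_self_mem_of_index_two hi' x
  have hcen : ∀ {P : Subgroup D} {u v : D}, Last P u → v ∈ center D → v ∈ P := fun hP hv =>
    hP.cent _ fun q _ => (mem_center_iff.1 hv q).symm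
  -- `Q ≠ Q'`
  have hQQ : Q ≠ Q' := by
    rintro rfl
    obtain ⟨x, hx, w, hw, hxw⟩ := h.nonab
    rcases h.comm x hx w hw with h1 | h1
    · exact hxw h1
    · rcases h'.comm x hx w hw with h2 | h2
      · exact hxw h2
      · rw [h1] at h2
        exact hne (mul_right_cancel h2)
  -- the centres
  have hle : ∀ {P P' : Subgroup D} {u u' : D}, Last P u → Last P' u' → u ∈ center D → (∀ x : D, x * x ∈ P') →
      ∀ x ∈ P, (∀ w ∈ P, x * w = w * x) → x ∈ P' ∧ ∀ w ∈ P', x * w = w * x := by
    intro P P' u u' hP hP' hu hs x hx hxc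
    have h1 : x ∈ P' := by
      obtain ⟨v, -, hv | hv⟩ := hP.centre_sq x hx hxc
      · rw [hv]; exact hs v
      · rw [hv]; exact mul_mem (hs v) (hcen hP' hu)
    refine ⟨h1, ?_⟩
    by_contra hcon
    exact hP'.not_centre x h1 hcon (hP.centre_el x hx hxc)
  obtain ⟨x, hx, hxc, hxn⟩ := h.not_central
  apply hxn
  have h1 := hle h h' hz hsq' x hx hxc
  -- `D = Q Q'`
  have hsup : Q ⊔ Q' = ⊤ := by
    have h2 : Q < Q ⊔ Q' := by
      refine lt_of_le_of_ne le_sup_left fun h3 => ?_
      have h4 : Q' ≤ Q := by rw [h3]; exact le_sup_right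
      exact hQQ (eq_of_le_of_card_ge h4 (by rw [h.card, h'.card])).symm
    have h3 := relIndex_mul_index h2.le
    rw [hi] at h3
    have h4 : Q.relIndex (Q ⊔ Q') ≠ 1 := by
      intro h5
      rw [relIndex_eq_one] at h5
      exact h2.not_ge h5
    have h6 : (Q ⊔ Q').index ∣ 2 := Dvd.intro_left _ h3
    rcases (Nat.dvd_prime Nat.prime_two).1 h6 with h7 | h7
    · exact index_eq_one.1 h7
    · rw [h7] at h3
      omega
  have h2 : Q ⊔ Q' ≤ centralizer ({x} : Set D) := by
    refine sup_le (fun w hw => ?_) (fun w hw => ?_)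
    · rw [mem_centralizer_singleton_iff]
      exact (hxc w hw).symm
    · rw [mem_centralizer_singleton_iff]
      exact (h1.2 w hw).symm
  rw [hsup] at h2
  rw [mem_center_iff]
  intro g
  exact mem_centralizer_singleton_iff.1 (h2 (mem_top g))

end Cfsg.Agent.H763.Two
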